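import Cfsg.Agent.LieClassical.OrthTrans

/-!
# S5719, even characteristic, EV7 (helper699)

`t = ρ_{w,x}`, `s = ρ_{w,y}` with `⟨w,x,y⟩` totally singular of dimension 3: `|C(t) : C(t) ∩ C(s)| ≥ q^(2l-5)`.
-/

set_option autoImplicit false
set_option linter.unusedSectionVars false

namespace Cfsg.Agent.H699.IFE

open QuadraticMap Module Subgroup Cfsg.Agent.LieClassical.OrthCore Cfsg.Agent.LieClassical.OrthTrans

/-- prescribed values of three functionals -/
theorem exists_dual {F V : Type*} [Field F] [AddCommGroup V] [Module F V]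
    {Q : QuadraticForm F V} (hQ : Nondeg Q) {w x y : V} (hi : LinearIndependent F ![w, x, y]) :
    ∃ v, polar Q w v = 0 ∧ polar Q x v = 0 ∧ polar Q y v = 1 := by
  let L : V →ₗ[F] (Fin 3 → F) := LinearMap.pi ![polarBilin Q w, polarBilin Q x, polarBilin Q y]
  have h0 : ∀ v, L v 0 = polar Q w v := fun v => rfl
  have h1 : ∀ v, L v 1 = polar Q x v := fun v => rfl
  have h2 : ∀ v, L v 2 = polar Q y v := fun v => rfl
  have hL : LinearMap.range L = ⊤ := by
    by_contra hne
    obtain ⟨f, hf0, hf⟩ := Submodule.exists_le_ker_of_lt_top _ (lt_top_iff_ne_top.2 hne)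
    have h3 : ∀ v, f (L v) = 0 := fun v => hf ⟨v, rfl⟩
    have h4 : ∀ z : Fin 3 → F, f z = z 0 * f (Pi.single 0 1) + z 1 * f (Pi.single 1 1) + z 2 * f (Pi.single 2 1) := by
      intro z
      have h5 : z = z 0 • Pi.single 0 1 + z 1 • Pi.single 1 1 + z 2 • Pi.single 2 1 := by
        ext i
        fin_cases i <;> simp
      conv_lhs => rw [h5]
      rw [map_add, map_add, map_smul, map_smul, map_smul]
      simp only [smul_eq_mul]
    have h5 : f (Pi.single 0 1) • w + f (Pi.single 1 1) • x + f (Pi.single 2 1) • y = 0 := by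
      apply hQ
      intro v
      rw [polar_add_left, polar_add_left, polar_smul_left, polar_smul_left, polar_smul_left]
      have h6 := h3 v
      rw [h4, h0, h1, h2] at h6
      simp only [smul_eq_mul]
      linear_combination h6
    rw [Fintype.linearIndependent_iff] at hi
    have h6 := hi ![f (Pi.single 0 1), f (Pi.single 1 1), f (Pi.single 2 1)] (by
      rw [Fin.sum_univ_three]
      exact h5)
    apply hf0
    apply LinearMap.ext
    intro z
    rw [h4]
    have e0 : f (Pi.single 0 1) = 0 := h6 0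
    have e1 : f (Pi.single 1 1) = 0 := h6 1
    have e2 : f (Pi.single 2 1) = 0 := h6 2
    rw [e0, e1, e2]
    simp
  have h3 : ![(0 : F), 0, 1] ∈ LinearMap.range L := by rw [hL]; trivial
  obtain ⟨v, hv⟩ := h3
  refine ⟨v, ?_, ?_, ?_⟩
  · rw [← h0, hv]; rfl
  · rw [← h1, hv]; rfl
  · rw [← h2, hv]; rfl

/-- a singular vector with prescribed values -/
theorem exists_opp {F V : Type*} [Field F] [AddCommGroup V] [Module F V]
    {Q : QuadraticForm F V} (hQ : Nondeg Q) {w x y : V} (hy : Q y = 0) (hwy : polar Q w y = 0)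
    (hxy : polar Q x y = 0) (hi : LinearIndependent F ![w, x, y]) :
    ∃ v, Q v = 0 ∧ polar Q w v = 0 ∧ polar Q x v = 0 ∧ polar Q y v = 1 := by
  obtain ⟨v, h1, h2, h3⟩ := exists_dual hQ hi
  refine ⟨v - Q v • y, ?_, ?_, ?_, ?_⟩
  · have e : v - Q v • y = v + (-Q v) • y := by module
    rw [e, Q_add, QuadraticMap.map_smul, hy, polar_smul_right, polar_comm Q v y, h3]
    simp
  · rw [polar_sub_right, polar_smul_right, h1, hwy]
    simp
  · rw [polar_sub_right, polar_smul_right, h2, hxy]
    simp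
  · rw [polar_sub_right, polar_smul_right, polar_self_of_sing hy, h3]
    simp

/-- equality of Siegel transformations with the same centre -/
theorem siegel_eq {F V : Type*} [Field F] [AddCommGroup V] [Module F V]
    {Q : QuadraticForm F V} (hQ : Nondeg Q) {w a b : V} (hw : Q w = 0) (hw0 : w ≠ 0) (ha : polar Q w a = 0)
    (hb : polar Q w b = 0) (h : siegel Q w a hw ha = siegel Q w b hw hb) : ∃ c : F, a - b = c • w := by
  obtain ⟨u, hu⟩ := hQ.exists_polar_eq hw0 1
  have h1 := congrArg (fun f : V ≃ₗ[F] V => f u) h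
  simp only [siegel_apply, hu, one_smul, mul_one] at h1
  refine ⟨(polar Q a u + Q a) - (polar Q b u + Q b), ?_⟩
  have h2 : a - b = (u + a - polar Q a u • w - Q a • w) - (u + b - polar Q b u • w - Q b • w) +
      ((polar Q a u + Q a) - (polar Q b u + Q b)) • w := by module
  rw [h1, sub_self, zero_add] at h2
  exact h2

/-- EV7. `t = ρ_{w,x}`, `s = ρ_{w,y}` with `⟨w,x,y⟩` totally singular of dimension 3 -/
theorem relIndex_perp {F V : Type*} [Field F] [Fintype F] [CharP F 2] [AddCommGroup V] [Module F V] [Fintype V]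
    {Q : QuadraticForm F V} (hQ : Nondeg Q) {l : ℕ} (hl : 4 ≤ l) (hd : finrank F V = 2 * l) {w x y : V}
    (hw : Q w = 0) (hx : Q x = 0) (hy : Q y = 0) (hwx : polar Q w x = 0) (hwy : polar Q w y = 0)
    (hxy : polar Q x y = 0) (hi : LinearIndependent F ![w, x, y]) {s t : ↥(E Q)}
    (ht : (t : V ≃ₗ[F] V) = siegel Q w x hw hwx) (hs : (s : V ≃ₗ[F] V) = siegel Q w y hw hwy) :
    Fintype.card F ^ (2 * l - 5) ≤
      (centralizer ({s} : Set ↥(E Q))).relIndex (centralizer ({t} : Set ↥(E Q))) := by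
  classical
  obtain ⟨z, hz, hwz, hxz, hyz⟩ := exists_opp hQ hy hwy hxy hi
  have hw0 : w ≠ 0 := by
    have := hi.ne_zero 0
    exact this
  have hzw : polar Q z w = 0 := by rw [polar_comm]; exact hwz
  have hzx : polar Q z x = 0 := by rw [polar_comm]; exact hxz
  have hzy : polar Q z y = 1 := by rw [polar_comm]; exact hyz
  have hzz : polar Q z z = 0 := polar_self_of_sing hz
  have hww : polar Q w w = 0 := polar_self_of_sing hw
  -- the space `K = ⟨w,x,z⟩^⊥`
  let L : V →ₗ[F] (Fin 3 → F) := LinearMap.pi ![polarBilin Q w, polarBilin Q x, polarBilin Q z]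
  set K := LinearMap.ker L with hK
  have hKmem : ∀ v, v ∈ K ↔ polar Q w v = 0 ∧ polar Q x v = 0 ∧ polar Q z v = 0 := by
    intro v
    rw [hK, LinearMap.mem_ker]
    constructor
    · intro h
      exact ⟨congrFun h 0, congrFun h 1, congrFun h 2⟩
    · rintro ⟨h0, h1, h2⟩
      funext i
      fin_cases i
      · exact h0
      · exact h1
      · exact h2
  have hKd : 2 * l - 3 ≤ finrank F K := by
    have h1 := L.finrank_range_add_finrank_ker
    have h2 : finrank F (LinearMap.range L) ≤ 3 := by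
      refine (Submodule.finrank_le _).trans ?_
      rw [Module.finrank_fintype_fun_eq_card, Fintype.card_fin]
    rw [hd] at h1
    rw [hK]
    omega
  -- the plane `⟨w, z⟩` in `K`
  set D := Submodule.span F ({w, z} : Set V) with hD
  have hDK : D ≤ K := by
    rw [hD, Submodule.span_le]
    rintro v (rfl | rfl)
    · exact (hKmem _).2 ⟨hww, by rw [polar_comm]; exact hwx, hzw⟩
    · exact (hKmem _).2 ⟨hwz, hxz, hzz⟩
  have hDd : finrank F D ≤ 2 := by
    refine (finrank_span_le_card ({w, z} : Set V)).trans ?_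
    refine (Set.toFinset_card _).le.trans ?_
    rw [← Nat.card_eq_fintype_card, Nat.card_coe_set_eq]
    exact Set.ncard_insert_le _ _ |>.trans (by rw [Set.ncard_singleton])
  obtain ⟨C, hC⟩ := Submodule.exists_isCompl (D.submoduleOf K)
  have hCd : 2 * l - 5 ≤ finrank F C := by
    have h1 := Submodule.finrank_add_eq_of_isCompl hC
    have h2 : finrank F (D.submoduleOf K) = finrank F D := (Submodule.submoduleOfEquivOfLe hDK).finrank_eq
    omega
  have hv : ∀ v : C, polar Q z ((v : K) : V) = 0 := fun v => ((hKmem _).1 (v : K).2).2.2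
  -- the elements
  have hgw : ∀ v : C, siegel Q z ((v : K) : V) hz (hv v) w = w := by
    intro v
    have h1 := ((hKmem _).1 (v : K).2).1
    rw [siegel_apply, hzw, polar_comm Q _ w, h1]
    simp
  have hgx : ∀ v : C, siegel Q z ((v : K) : V) hz (hv v) x = x := by
    intro v
    have h1 := ((hKmem _).1 (v : K).2).2.1
    rw [siegel_apply, hzx, polar_comm Q _ x, h1]
    simp
  have hgy : ∀ v : C, siegel Q z ((v : K) : V) hz (hv v) y =
      y + ((v : K) : V) - (polar Q ((v : K) : V) y + Q ((v : K) : V)) • z := by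
    intro v
    rw [siegel_apply, hzy]
    module
  let g : C → ↥(E Q) := fun v => ⟨siegel Q z ((v : K) : V) hz (hv v), siegel_mem_E _ _⟩
  have hgt : ∀ v, g v ∈ centralizer ({t} : Set ↥(E Q)) := by
    intro v
    rw [mem_centralizer_singleton_iff]
    apply Subtype.ext
    have h1 : (g v : V ≃ₗ[F] V) * t * (g v : V ≃ₗ[F] V)⁻¹ = t := by
      rw [ht]
      have e1 : Q ((g v : V ≃ₗ[F] V) w) = 0 := by rw [show (g v : V ≃ₗ[F] V) w = w from hgw v]; exact hw
      have e2 : polar Q ((g v : V ≃ₗ[F] V) w) ((g v : V ≃ₗ[F] V) x) = 0 := by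
        rw [show (g v : V ≃ₗ[F] V) w = w from hgw v, show (g v : V ≃ₗ[F] V) x = x from hgx v]; exact hwx
      rw [siegel_conj (E_le_O (g v).2) hw hwx e1 e2]
      congr 1
      · exact hgw v
      · exact hgx v
    exact mul_inv_eq_iff_eq_mul.1 h1
  have hgs : ∀ v, ∃ h : polar Q w ((g v : V ≃ₗ[F] V) y) = 0,
      (g v : V ≃ₗ[F] V) * s * (g v : V ≃ₗ[F] V)⁻¹ = siegel Q w ((g v : V ≃ₗ[F] V) y) hw h := by
    intro v
    have e1 : Q ((g v : V ≃ₗ[F] V) w) = 0 := by rw [show (g v : V ≃ₗ[F] V) w = w from hgw v]; exact hw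
    have e3 : polar Q ((g v : V ≃ₗ[F] V) w) ((g v : V ≃ₗ[F] V) y) = 0 := by
      rw [polar_map (E_le_O (g v).2)]; exact hwy
    have e2 : polar Q w ((g v : V ≃ₗ[F] V) y) = 0 := by
      rw [show (g v : V ≃ₗ[F] V) w = w from hgw v] at e3; exact e3
    refine ⟨e2, ?_⟩
    rw [hs, siegel_conj (E_le_O (g v).2) hw hwy e1 e3]
    congr 1
    exact hgw v
  -- injectivity
  have hinj : ∀ v v' : C, (g v)⁻¹ * g v' ∈ centralizer ({s} : Set ↥(E Q)) → v = v' := by
    intro v v' h1
    have h2 : (g v : V ≃ₗ[F] V) * s * (g v : V ≃ₗ[F] V)⁻¹ = (g v' : V ≃ₗ[F] V) * s * (g v' : V ≃ₗ[F] V)⁻¹ := by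
      have h3 := mem_centralizer_singleton_iff.1 h1
      have h4 : g v * s * (g v)⁻¹ = g v' * s * (g v')⁻¹ := by
        calc g v * s * (g v)⁻¹ = g v * (s * ((g v)⁻¹ * g v')) * (g v')⁻¹ := by group
          _ = g v * (((g v)⁻¹ * g v') * s) * (g v')⁻¹ := by rw [h3]
          _ = g v' * s * (g v')⁻¹ := by group
      exact congrArg Subtype.val h4
    obtain ⟨p1, q1⟩ := hgs v
    obtain ⟨p2, q2⟩ := hgs v'
    rw [q1, q2] at h2
    obtain ⟨c, hc⟩ := siegel_eq hQ hw hw0 p1 p2 h2
    rw [show (g v : V ≃ₗ[F] V) y = _ from hgy v, show (g v' : V ≃ₗ[F] V) y = _ from hgy v'] at hc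
    have h3 : ((v : K) : V) - ((v' : K) : V) ∈ D := by
      have e : ((v : K) : V) - ((v' : K) : V) = c • w + ((polar Q ((v : K) : V) y + Q ((v : K) : V)) -
          (polar Q ((v' : K) : V) y + Q ((v' : K) : V))) • z := by
        rw [← hc]
        module
      rw [e]
      exact D.add_mem (D.smul_mem _ (Submodule.subset_span (by simp))) (D.smul_mem _ (Submodule.subset_span (by simp)))
    have h4 : (v : K) - (v' : K) ∈ D.submoduleOf K ⊓ C := ⟨h3, C.sub_mem v.2 v'.2⟩
    rw [hC.inf_eq_bot, Submodule.mem_bot, sub_eq_zero] at h4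
    exact Subtype.ext h4
  -- the count
  let H := (centralizer ({s} : Set ↥(E Q))).subgroupOf (centralizer ({t} : Set ↥(E Q)))
  let φ : C → (centralizer ({t} : Set ↥(E Q))) ⧸ H := fun v => QuotientGroup.mk ⟨g v, hgt v⟩
  have hφ : Function.Injective φ := by
    intro v v' h
    apply hinj
    have h1 := QuotientGroup.eq.1 h
    exact h1
  have hfin : Finite (V ≃ₗ[F] V) := Finite.of_injective (fun e : V ≃ₗ[F] V => (e : V → V)) DFunLike.coe_injective
  have h1 := Nat.card_le_card_of_injective φ hφ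
  have h2 : Nat.card C = Fintype.card F ^ finrank F C := by
    rw [Module.natCard_eq_pow_finrank (K := F), Nat.card_eq_fintype_card]
  have h3 : Fintype.card F ^ (2 * l - 5) ≤ Fintype.card F ^ finrank F C :=
    Nat.pow_le_pow_right Fintype.card_pos hCd
  rw [h2] at h1
  exact h3.trans h1

end Cfsg.Agent.H699.IFE
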